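import Cfsg.Statements.S3711
import Cfsg.Agent.P3711.Four

set_option autoImplicit false
open Cfsg

namespace Cfsg.Agent.S3711

open Cfsg.Agent.Phan Cfsg.Agent.H434 Cfsg.Agent.P3711

/-- Recognition of unitary groups over the field with 4 elements from a weak Phan system. Let F be a field with 4 elements and n ≥ 4. Let G be a group with subgroups U_0, …, U_{n−1}, each isomorphic to SU(2, 4), and, for consecutive indices, subgroups V_{i,i+1} in which U_i and U_{i+1} form a standard pair (via an isomorphism from SU(3, 4) or PSU(3, 4) carrying the block-diagonal subgroups, or their images, onto U_i and U_{i+1}); suppose U_i and U_j commute elementwise whenever the indices differ by at least 2, that G is generated by the U_i and the V_{i,i+1}, that for each i the subgroup generated by V_{i,i+1} and V_{i+1,i+2} is a homomorphic image of SU(4, 4), that U_i and V_{j,j+1} commute elementwise whenever i ≤ j − 2 or i ≥ j +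 3, and that V_{i,i+1} and V_{k,k+1} commute elementwise whenever k ≥ i + 3. Then G is a homomorphic image of SU(n+1, 4). (G is not assumed finite.) -/
theorem result {G : Type*} [Group G] (n : ℕ) (hn : 4 ≤ n)
    (F : Type*) [Field F] [Fintype F] (hF : Fintype.card F = 4)
    (U : Fin n → Subgroup G) (e : ∀ i, ↥(Cfsg.SU 2 F 2) ≃* ↥(U i))
    (V : Fin n → Fin n → Subgroup G)
    (h1 : ∀ i j : Fin n, (i : ℕ) + 2 ≤ j → ∀ x ∈ U i, ∀ y ∈ U j, x * y = y * x)
    (h2 : ∀ i j : Fin n, (i : ℕ) + 1 = j → Cfsg.IsStandardUnitaryPair (V i j) (U i) (U j) F 2)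
    (hgen : (⨆ i, U i) ⊔ (⨆ (i : Fin n) (j : Fin n) (_ : (i : ℕ) + 1 = j), V i j) = ⊤)
    (h4 : ∀ i j k : Fin n, (i : ℕ) + 1 = j → (j : ℕ) + 1 = k →
      ∃ g : ↥(Cfsg.SU 4 F 2) →* ↥(V i j ⊔ V j k), Function.Surjective g)
    (h5 : ∀ i j k : Fin n, (j : ℕ) + 1 = k → ((i : ℕ) + 2 ≤ j ∨ (k : ℕ) + 2 ≤ i) →
      ∀ x ∈ U i, ∀ y ∈ V j k, x * y = y * x)
    (h6 : ∀ i j k l : Fin n, (i : ℕ) + 1 = j → (k : ℕ) + 1 = l → (j : ℕ) + 2 ≤ k →
      ∀ x ∈ V i j, ∀ y ∈ V k l, x * y = y * x) :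
    ∃ f : ↥(Cfsg.SU (n + 1) F 2) →* G, Function.Surjective f := by
  classical
  have hF4 : Fintype.card F = 2 ^ 2 := by rw [hF]; norm_num
  obtain ⟨m, rfl⟩ : ∃ m, n = m + 4 := ⟨n - 4, by omega⟩
  obtain ⟨φ, g, hs, hg⟩ := exists_weak_system hF4 (m + 4) U V h1 h2
  -- the ranges
  have hgV : ∀ k (hk : k + 1 < m + 4) x, g k x ∈ V ⟨k, by omega⟩ ⟨k + 1, hk⟩ := by
    intro k hk x
    rw [← (hg k hk).1]
    exact ⟨_, rfl⟩
  have hφU : ∀ k (hk : k < m + 4) a, φ k a ∈ U ⟨k, hk⟩ := by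
    intro k hk a
    by_cases h : k + 1 < m + 4
    · rw [← (hg k h).2.2.1, ← hs.left k (by omega)]
      exact ⟨_, rfl⟩
    · obtain ⟨j, rfl⟩ : ∃ j, k = j + 1 := ⟨k - 1, by omega⟩
      rw [← (hg j (by omega)).2.2.2, ← hs.right j (by omega)]
      exact ⟨_, rfl⟩
  have hex : ∀ k, ∃ Γ : Cfsg.SU 4 F 2 →* G, k + 4 ≤ m + 5 →
      (∀ x, Γ (emb hF4 0 (by omega : 0 + 3 ≤ 4) x) = g k x) ∧
      (∀ x, Γ (emb hF4 1 (by omega : 1 + 3 ≤ 4) x) = g (k + 1) x) := by
    intro k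
    by_cases hk : k + 4 ≤ m + 5
    · obtain ⟨gg, hgg⟩ := h4 ⟨k, by omega⟩ ⟨k + 1, by omega⟩ ⟨k + 2, by omega⟩ rfl rfl
      obtain ⟨Γ, h⟩ := exists_four hF4 (g k) (g (k + 1)) _
        (fun x => Subgroup.mem_sup_left (hgV k (by omega) x))
        (fun x => Subgroup.mem_sup_right (hgV (k + 1) (by omega) x)) gg hgg
        (fun y => by rw [hs.right k (by omega), hs.left (k + 1) (by omega)])
        (fun x y => by
          rw [hs.left k (by omega), hs.right (k + 1) (by omega)]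
          exact hs.comm k (k + 2) (by omega) (by omega) x y)
        (hg k (by omega)).2.1 (hg (k + 1) (by omega)).2.1
      exact ⟨Γ, fun _ => h⟩
    · exact ⟨1, fun h => absurd h hk⟩
  choose Γ hΓ using hex
  have hsys : Sys hF4 ((m + 1) + 4) φ g Γ := by
    refine ⟨fun k hk a => hs.left k (by omega) a, fun k hk a => hs.right k (by omega) a,
      fun k hk x => (hΓ k (by omega)).1 x, fun k hk x => (hΓ k (by omega)).2 x, ?_, ?_⟩
    · intro i j hij hj a x
      exact h5 ⟨i, by omega⟩ ⟨j, by omega⟩ ⟨j + 1, by omega⟩ rfl (Or.inl hij) _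
        (hφU i (by omega) a) _ (hgV j (by omega) x)
    · intro i j hij hj x y
      refine h6 ⟨i, by omega⟩ ⟨i + 1, by omega⟩ ⟨j, by omega⟩ ⟨j + 1, by omega⟩ rfl rfl ?_ _
        (hgV i (by omega) x) _ (hgV j (by omega) y)
      change i + 1 + 2 ≤ j
      omega
  obtain ⟨Φ, hΦ'⟩ := Sys.exists_hom hF4 (m + 1) hsys
  have hΦ : ∀ k (hk : k + 3 ≤ m + 5) (x : Cfsg.SU 3 F 2), Φ (emb hF4 k hk x) = g k x := by
    intro k hk x
    by_cases hk' : k + 4 ≤ m + 5
    · have e1 : emb hF4 k hk x = emb hF4 k hk' (emb hF4 0 (by omega : 0 + 3 ≤ 4) x) := by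
        rw [emb_emb]
        exact emb_congr hF4 _ _ (by omega) x
      rw [e1]
      exact (hΦ' k hk' _).trans ((hΓ k hk').1 x)
    · obtain ⟨i, rfl⟩ : ∃ i, k = i + 1 := ⟨k - 1, by omega⟩
      have e1 : emb hF4 (i + 1) hk x =
          emb hF4 i (by omega : i + 4 ≤ m + 5) (emb hF4 1 (by omega : 1 + 3 ≤ 4) x) := by
        rw [emb_emb]
      rw [e1]
      exact (hΦ' i (by omega) _).trans ((hΓ i (by omega)).2 x)
  refine ⟨Φ, ?_⟩
  rw [← MonoidHom.range_eq_top, eq_top_iff, ← hgen, sup_le_iff]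
  constructor
  · rw [iSup_le_iff]
    rintro ⟨i, hi⟩
    by_cases h : i + 1 < m + 4
    · rw [← (hg i h).2.2.1]
      rintro _ ⟨x, rfl⟩
      exact ⟨_, hΦ i (by omega) _⟩
    · obtain ⟨j, rfl⟩ : ∃ j, i = j + 1 := ⟨i - 1, by omega⟩
      rw [← (hg j (by omega)).2.2.2]
      rintro _ ⟨x, rfl⟩
      exact ⟨_, hΦ j (by omega) _⟩
  · rw [iSup_le_iff]
    rintro ⟨i, hi⟩
    rw [iSup_le_iff]
    rintro ⟨j, hj⟩
    rw [iSup_le_iff]
    intro hij
    change i + 1 = j at hij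
    subst hij
    rw [← (hg i hj).1]
    rintro _ ⟨x, rfl⟩
    exact ⟨_, hΦ i (by omega) x⟩

end Cfsg.Agent.S3711
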