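import Cfsg.Statements.S5750
import Cfsg.Agent.R2.H14.E11.Fin

set_option autoImplicit false
open Cfsg

namespace Cfsg.Agent.S5750

/-- Let G be the twisted group ²E₆(q) over the field with q² elements, q = p^b a power of the prime p. Then no maximal subgroup H of G has generalised Fitting subgroup isomorphic to PSL₂(p^a) (a ≥ 1, the same prime p). -/
theorem result {L : Type*} [Field L] [Fintype L] (p b : ℕ) [Fact p.Prime] (hb : 1 ≤ b) (hL : Fintype.card L = (p ^ b) ^ 2)
    (H : Subgroup (Cfsg.Lie.twistedE6 L (p ^ b))) (hH : IsCoatom H)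
    {K : Type*} [Field K] [Fintype K] (a : ℕ) (ha : 1 ≤ a) (hK : Fintype.card K = p ^ a) :
    IsEmpty (Cfsg.generalizedFittingSubgroup H ≃* Matrix.ProjectiveSpecialLinearGroup (Fin 2) K) := by
  exact Cfsg.Agent.R2.H8.Core.tw_of_rest p b hb hL H hH a ha hK fun _ _ _ h => Cfsg.Agent.R2.H14.E11X.rest11 h

end Cfsg.Agent.S5750
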