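import Cfsg.Statements.S5931
-- import your own Cfsg.Agent.* helpers here
import Cfsg.Agent.R2.F4T.Core5
import Cfsg.Agent.R2.F4P.Th.Core3

set_option autoImplicit false
open Cfsg

namespace Cfsg.Agent.S5931

/-- Let p be a prime and a, b ≥ 1. Let F be a field with p^b elements and G the Chevalley group of type F₄ over F (generated by its root elements in the adjoint representation; the simple group F₄(p^b)), and let K be a field with p^a elements. If H is a maximal subgroup of G whose generalized Fitting subgroup is isomorphic to PSL₂(p^a), then p ≥ 13 and a = b. -/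
theorem result
    {F K : Type*} [Field F] [Fintype F] [Field K] [Fintype K] (p a b : ℕ) [Fact p.Prime] (ha : 1 ≤ a) (hb : 1 ≤ b)
    (hF : Fintype.card F = p ^ b) (hK : Fintype.card K = p ^ a) (H : Subgroup ↥(Cfsg.Lie.chevF4.group F)) (hH : IsCoatom H)
    (hL : Nonempty (↥(Cfsg.generalizedFittingSubgroup ↥H) ≃* Matrix.ProjectiveSpecialLinearGroup (Fin 2) K)) :
    13 ≤ p ∧ a = b := by
  refine Cfsg.Agent.R2.F4M.of_core ha hb hF hK hH hL fun φ h => ?_
  by_cases h5 : 5 ≤ p
  · exact Cfsg.Agent.R2.F4T.core5 h h5
  · exfalso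
    have h2 := h.prime.two_le
    have h4 : p ≠ 4 := by
      rintro rfl
      exact absurd h.prime (by norm_num)
    have h23 : p = 2 ∨ p = 3 := by omega
    rcases h23 with rfl | rfl
    · exact Cfsg.Agent.R2.F4M.p2_false h
    · exact Cfsg.Agent.R2.F4P.Th.core3 h

end Cfsg.Agent.S5931
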